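import Groth.Agent.SmoothWeil.Density
import Groth.Agent.FlatDescent.Dom.Universal
import Groth.Agent.SmoothDense.Basic
import Groth.Agent.UnitProd.SmoothReduced
import Groth.Agent.DepthLib.RegularLocal
import Groth.Agent.GeomIrr.Basic

/-!
Geometric fibres of smooth morphisms with connected geometric fibres are integral.
-/

universe u

open CategoryTheory CategoryTheory.Limits AlgebraicGeometry TopologicalSpace
open scoped TensorProduct

set_option backward.isDefEq.respectTransparency false
set_option linter.style.haveILetI false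

noncomputable section

namespace Groth.Agent.SmoothWeil

/-- A connected locally Noetherian scheme whose local rings are domains is irreducible. -/
theorem irreducibleSpace_of_connected (X : Scheme.{u}) [IsLocallyNoetherian X] [ConnectedSpace X]
    (h : ∀ x : X, IsDomain (X.presheaf.stalk x)) : IrreducibleSpace X := by
  have huniq : ∀ (x : X) (W : Set X), W ∈ irreducibleComponents X → x ∈ W →
      ∀ W' ∈ irreducibleComponents X, x ∈ W' → W = W' := by
    intro x
    haveI := h x
    let η : X := X.fromSpecStalk x (⊥ : PrimeSpectrum (X.presheaf.stalk x))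
    suffices ∀ W, W ∈ irreducibleComponents X → x ∈ W → closure {η} = W from
      fun W hW hxW W' hW' hxW' => (this W hW hxW).symm.trans (this W' hW' hxW')
    intro W hW hxW
    obtain ⟨ζ, hζ⟩ := QuasiSober.sober hW.1 (isClosed_of_mem_irreducibleComponents W hW)
    obtain ⟨p, hp⟩ : ζ ∈ Set.range (X.fromSpecStalk x) := by
      rw [Scheme.range_fromSpecStalk]; exact hζ.specializes hxW
    have h1 : η ⤳ ζ := by
      rw [← hp]
      exact ((PrimeSpectrum.le_iff_specializes (⊥ : PrimeSpectrum (X.presheaf.stalk x)) p).mp bot_le).map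
        (X.fromSpecStalk x).continuous
    have h2 : W ≤ closure {η} := by
      rw [← hζ.def]
      exact closure_minimal (Set.singleton_subset_iff.mpr (specializes_iff_mem_closure.mp h1)) isClosed_closure
    exact le_antisymm (hW.2 isIrreducible_singleton.closure h2) h2
  obtain ⟨x₀⟩ := (inferInstance : Nonempty X)
  let Z₀ := irreducibleComponent x₀
  have hZ₀ : Z₀ ∈ irreducibleComponents X := irreducibleComponent_mem_irreducibleComponents x₀
  have hopen : IsOpen Z₀ := by
    rw [isOpen_iff_forall_mem_open]
    intro y hy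
    obtain ⟨_, ⟨V, hV, rfl⟩, hyV, -⟩ := X.isBasis_affineOpens.exists_subset_of_mem_open (Set.mem_univ y) isOpen_univ
    haveI : IsNoetherianRing Γ(X, V) := IsLocallyNoetherian.component_noetherian ⟨V, hV⟩
    haveI : NoetherianSpace (V : Set X) := noetherianSpace_of_isAffineOpen V hV
    let bad : Set (Set (V : Set X)) := {C | C ∈ irreducibleComponents (V : Set X) ∧ ⟨y, hyV⟩ ∉ C}
    have hfin : bad.Finite := NoetherianSpace.finite_irreducibleComponents.subset fun C hC => hC.1
    have hcl : IsClosed (⋃ C ∈ bad, C) :=
      hfin.isClosed_biUnion fun C hC => isClosed_of_mem_irreducibleComponents C hC.1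
    refine ⟨Subtype.val '' (⋃ C ∈ bad, C)ᶜ, ?_, V.isOpen.isOpenMap_subtype_val _ hcl.isOpen_compl, ⟨y, hyV⟩, ?_, rfl⟩
    · rintro _ ⟨z, hz, rfl⟩
      let C := irreducibleComponent z
      have hyC : ⟨y, hyV⟩ ∈ C := by
        by_contra hyC
        exact hz (Set.mem_biUnion (show C ∈ bad from ⟨irreducibleComponent_mem_irreducibleComponents z, hyC⟩)
          mem_irreducibleComponent)
      have hC : IsPreirreducible (Subtype.val '' C : Set X) :=
        (isIrreducible_irreducibleComponent (x := z)).image _ continuous_subtype_val.continuousOn |>.2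
      obtain ⟨W, hW, hCW, hWmax⟩ := exists_preirreducible _ hC
      have hWc : W ∈ irreducibleComponents X :=
        ⟨⟨⟨y, hCW ⟨_, hyC, rfl⟩⟩, hW⟩, fun U hU hWU => (hWmax U hU.2 hWU).le⟩
      rw [huniq y Z₀ hZ₀ hy W hWc (hCW ⟨_, hyC, rfl⟩)]
      exact hCW ⟨_, mem_irreducibleComponent, rfl⟩
    · simp only [Set.mem_compl_iff, Set.mem_iUnion]
      rintro ⟨C, hC, hyC⟩
      exact hC.2 hyC
  have h2 := hZ₀.1
  rw [IsClopen.eq_univ ⟨isClosed_of_mem_irreducibleComponents Z₀ hZ₀, hopen⟩ ⟨x₀, mem_irreducibleComponent⟩] at h2
  exact (irreducibleSpace_def _).mpr h2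

theorem isIntegral_of_smooth_connected {k : Type u} [Field k] [IsAlgClosed k] {X : Scheme.{u}}
    (f : X ⟶ Spec (CommRingCat.of k)) [Smooth f] [ConnectedSpace X] : IsIntegral X := by
  haveI : IsReduced X := UnitProd.isReduced_left_of_smooth f
  haveI : IsLocallyNoetherian X := LocallyOfFiniteType.isLocallyNoetherian f
  haveI : IrreducibleSpace X := irreducibleSpace_of_connected X fun x => by
    haveI : IsRegularLocalRing (X.presheaf.stalk x) :=
      (SmoothDense.mem_smoothLocus_iff_regular f x).mp ((f.smoothLocus_eq_top_iff.mpr ‹Smooth f›).ge trivial)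
    exact DepthLib.isDomain_of_isRegularLocalRing _
  exact isIntegral_of_irreducibleSpace_of_isReduced _

variable {S Z : Scheme.{u}} {f : Z ⟶ S}

theorem isIntegral_geomFibre [Smooth f] [GeometricallyConnected f] {K : Type u} [Field K] [IsAlgClosed K]
    (y : Spec (CommRingCat.of K) ⟶ S) : IsIntegral (pullback f y) := by
  haveI : ConnectedSpace ↥(pullback f y) :=
    GeometricallyConnected.geometrically_connectedSpace (f := f) y _ _ (IsPullback.of_hasPullback f y)
  exact isIntegral_of_smooth_connected (pullback.snd f y)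

theorem irreducibleSpace_fibre [Smooth f] [GeometricallyConnected f] {K : Type u} [Field K]
    (y : Spec (CommRingCat.of K) ⟶ S) : IrreducibleSpace ↥(pullback f y) := by
  let i := Spec.map (CommRingCat.ofHom (algebraMap K (AlgebraicClosure K)))
  haveI : Surjective i := ⟨fun z => ⟨IsLocalRing.closedPoint _, Subsingleton.elim (α := PrimeSpectrum K) _ _⟩⟩
  haveI := isIntegral_geomFibre (f := f) (i ≫ y)
  let m : pullback f (i ≫ y) ⟶ pullback f y := pullback.map _ _ _ _ (𝟙 _) i (𝟙 _) (by simp) (by simp)
  have : m = (pullbackLeftPullbackSndIso f y i).inv ≫ pullback.fst (pullback.snd f y) i := by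
    apply pullback.hom_ext <;> simp [m, pullback.condition]
  haveI : Surjective m := by rw [this]; infer_instance
  exact m.surjective.irreducibleSpace m.continuous

theorem noZeroDivisors_of_openImmersion {P : Scheme.{u}} [IsIntegral P] {B : CommRingCat.{u}} (ρ : Spec B ⟶ P)
    [IsOpenImmersion ρ] : NoZeroDivisors B := by
  by_cases hne : Nonempty (Spec B : Scheme.{u})
  · haveI := hne
    haveI := isIntegral_of_isOpenImmersion ρ
    haveI : IsDomain B := (affine_isIntegral_iff B).mp inferInstance
    infer_instance
  · haveI : IsEmpty (PrimeSpectrum B) := not_nonempty_iff.mp hne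
    haveI : Subsingleton B := PrimeSpectrum.isEmpty_iff_subsingleton.mp ‹_›
    exact ⟨fun _ => Or.inl (Subsingleton.elim _ _)⟩

/-- affine opens of `Z ×_S Spec C` after base change of the affine base -/
theorem exists_bcChart {C K B : Type u} [CommRing C] [CommRing K] [CommRing B] [Algebra C B] [Algebra C K]
    (v : Spec (CommRingCat.of C) ⟶ S) (ρ : Spec (CommRingCat.of B) ⟶ pullback f v) [IsOpenImmersion ρ]
    (hρ : ρ ≫ pullback.snd f v = Spec.map (CommRingCat.ofHom (algebraMap C B))) :
    ∃ ρ' : Spec (CommRingCat.of (K ⊗[C] B)) ⟶ pullback f (Spec.map (CommRingCat.ofHom (algebraMap C K)) ≫ v),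
      IsOpenImmersion ρ' ∧
      ρ' ≫ pullback.snd f _ = Spec.map (CommRingCat.ofHom (Algebra.TensorProduct.includeLeftRingHom : K →+* K ⊗[C] B)) ∧
      ρ' ≫ pullback.fst f _ = Spec.map (CommRingCat.ofHom (Algebra.TensorProduct.includeRight : B →ₐ[C] K ⊗[C] B).toRingHom) ≫
        ρ ≫ pullback.fst f v := by
  let k := Spec.map (CommRingCat.ofHom (algebraMap C K))
  let iL := Spec.map (CommRingCat.ofHom (Algebra.TensorProduct.includeLeftRingHom : K →+* K ⊗[C] B))
  let iR := Spec.map (CommRingCat.ofHom (Algebra.TensorProduct.includeRight : B →ₐ[C] K ⊗[C] B).toRingHom)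
  have hsq : IsPullback iR iL (Spec.map (CommRingCat.ofHom (algebraMap C B))) k :=
    (isPullback_SpecMap_of_isPushout _ _ _ _ (CommRingCat.isPushout_tensorProduct C K B)).flip
  let ρ' : Spec (CommRingCat.of (K ⊗[C] B)) ⟶ pullback f (k ≫ v) :=
    pullback.lift (iR ≫ ρ ≫ pullback.fst f v) iL (by
      rw [Category.assoc, Category.assoc, pullback.condition, reassoc_of% hρ, hsq.w_assoc])
  let m : pullback f (k ≫ v) ⟶ pullback f v := pullback.map _ _ _ _ (𝟙 _) k (𝟙 _) (by simp) (by simp)
  have hm : IsPullback m (pullback.snd f (k ≫ v)) (pullback.snd f v) k := by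
    refine IsPullback.of_right ?_ (by simp [m]) (IsPullback.of_hasPullback f v)
    simpa [m] using IsPullback.of_hasPullback f (k ≫ v)
  have hρ' : IsPullback iR ρ' ρ m := by
    refine IsPullback.of_bot ?_ ?_ hm
    · rw [hρ, pullback.lift_snd]; exact hsq
    · apply pullback.hom_ext
      · simp [ρ', m]
      · simp [ρ', m, hρ, hsq.w]
  exact ⟨ρ', MorphismProperty.of_isPullback (P := @IsOpenImmersion) hρ' inferInstance,
    pullback.lift_snd _ _ _, pullback.lift_fst _ _ _⟩

/-- the rings of affine opens of `Z ×_S Spec C` have integral fibres over `C` -/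
theorem domFibres_of_openImmersion [Smooth f] [GeometricallyConnected f] {C B : Type u} [CommRing C] [CommRing B]
    [Algebra C B] (v : Spec (CommRingCat.of C) ⟶ S) (ρ : Spec (CommRingCat.of B) ⟶ pullback f v) [IsOpenImmersion ρ]
    (hρ : ρ ≫ pullback.snd f v = Spec.map (CommRingCat.ofHom (algebraMap C B))) : DomFibres C B := by
  intro p _
  let K := AlgebraicClosure p.ResidueField
  letI : Algebra C K := ((algebraMap p.ResidueField K).comp (algebraMap C p.ResidueField)).toAlgebra
  let j : p.ResidueField →ₐ[C] K := ⟨algebraMap p.ResidueField K, fun _ => rfl⟩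
  have hinj : Function.Injective (Algebra.TensorProduct.map j (AlgHom.id C B)) := by
    exact Groth.FlatDescent.Dom.rTensor_injective_of_field j (RingHom.injective _) B
  suffices h : NoZeroDivisors (K ⊗[C] B) from
    hinj.noZeroDivisors _ (map_zero _) (map_mul _)
  obtain ⟨ρ', _, -, -⟩ := exists_bcChart (K := K) v ρ hρ
  haveI := isIntegral_geomFibre (f := f) (Spec.map (CommRingCat.ofHom (algebraMap C K)) ≫ v)
  exact noZeroDivisors_of_openImmersion ρ'

theorem geometricallyConnected_of_algClosed
    (h : ∀ (K : Type u) [Field K] [IsAlgClosed K] (y : Spec (CommRingCat.of K) ⟶ S), ConnectedSpace ↥(pullback f y)) :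
    GeometricallyConnected f := by
  refine ⟨geometrically_iff_of_isClosedUnderIsomorphisms.mpr fun E _ y => ?_⟩
  let i := Spec.map (CommRingCat.ofHom (algebraMap E (AlgebraicClosure E)))
  haveI : Surjective i := ⟨fun z => ⟨IsLocalRing.closedPoint _, Subsingleton.elim (α := PrimeSpectrum E) _ _⟩⟩
  haveI := h (AlgebraicClosure E) (i ≫ y)
  let m : pullback f (i ≫ y) ⟶ pullback f y := pullback.map _ _ _ _ (𝟙 _) i (𝟙 _) (by simp) (by simp)
  have : m = (pullbackLeftPullbackSndIso f y i).inv ≫ pullback.fst (pullback.snd f y) i := by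
    apply pullback.hom_ext <;> simp [m, pullback.condition]
  haveI : Surjective m := by rw [this]; infer_instance
  exact m.surjective.connectedSpace m.continuous

theorem geometricallyConnected_snd_of_closure {k : Type u} [Field k] (x : Spec (CommRingCat.of k) ⟶ S)
    (h : ConnectedSpace ↥(pullback f (Spec.map (CommRingCat.ofHom (algebraMap k (AlgebraicClosure k))) ≫ x))) :
    GeometricallyConnected (pullback.snd f x) := by
  haveI : ConnectedSpace ↥(pullback (pullback.snd f x) (FieldExtConn.ext k (AlgebraicClosure k))) := by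
    haveI := h
    let e := (pullbackLeftPullbackSndIso f x (FieldExtConn.ext k (AlgebraicClosure k))).inv
    exact (Scheme.Hom.homeomorph e).surjective.connectedSpace (Scheme.Hom.homeomorph e).continuous
  exact GeomIrr.geometricallyConnected_of_isSepClosed (f := pullback.snd f x) (AlgebraicClosure k)

theorem geometricallyConnected_of_geomPt (hconn : ∀ s : S, ConnectedSpace ↥(pullback f
      (Spec.map (CommRingCat.ofHom (algebraMap (S.residueField s) (AlgebraicClosure (S.residueField s)))) ≫
        S.fromSpecResidueField s))) :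
    GeometricallyConnected f := by
  refine geometricallyConnected_of_algClosed fun K _ _ y => ?_
  let s := y (IsLocalRing.closedPoint K)
  let r := pullback.snd f (S.fromSpecResidueField s)
  haveI : GeometricallyConnected r :=
    geometricallyConnected_snd_of_closure (k := (S.residueField s : Type u)) (S.fromSpecResidueField s) (hconn s)
  let y' : Spec (CommRingCat.of K) ⟶ Spec (S.residueField s) := Spec.map (Scheme.descResidueField (Scheme.stalkClosedPointTo y))
  have hy : y' ≫ S.fromSpecResidueField s = y := Scheme.descResidueField_stalkClosedPointTo_fromSpecResidueField K S y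
  haveI : ConnectedSpace ↥(pullback r y') :=
    GeometricallyConnected.geometrically_connectedSpace (f := r) y' _ _ (IsPullback.of_hasPullback r y')
  let e := (pullbackLeftPullbackSndIso f (S.fromSpecResidueField s) y').hom ≫ (pullback.congrHom rfl hy).hom
  exact (Scheme.Hom.homeomorph e).surjective.connectedSpace (Scheme.Hom.homeomorph e).continuous

end Groth.Agent.SmoothWeil
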