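import Groth.Agent.FlatDescent.Dom.Regular

/-!
Elements of a flat finitely presented algebra with integral fibres which die generically on every fibre.
-/

universe u

open TensorProduct

set_option linter.style.haveILetI false

noncomputable section

namespace Groth.Agent.SmoothWeil

/-- every fibre is a domain (or empty) -/
def DomFibres (C B : Type u) [CommRing C] [CommRing B] [Algebra C B] : Prop :=
  ∀ (p : Ideal C) [p.IsPrime], NoZeroDivisors (p.ResidueField ⊗[C] B)

theorem eq_zero_of_fibrewise {C B : Type u} [CommRing C] [CommRing B] [Algebra C B]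
    [Algebra.FinitePresentation C B] [Module.Flat C B] (hdom : DomFibres C B) (x : B)
    (h : ∀ P : Ideal B, P.IsPrime → ∃ (g : B) (q : Ideal B), q.IsPrime ∧ g * x = 0 ∧
      q.comap (algebraMap C B) = P.comap (algebraMap C B) ∧ g ∉ q) : x = 0 := by
  let N : Ideal B := LinearMap.ker (LinearMap.toSpanSingleton B B x)
  have hN : ∀ t, t ∈ N ↔ t * x = 0 := fun t => by simp [N]
  by_cases htop : N = ⊤
  · simpa using (hN 1).mp (htop ▸ Submodule.mem_top)
  exfalso
  obtain ⟨P, hP, hNP⟩ := Ideal.exists_le_maximal N htop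
  haveI := hP.isPrime
  obtain ⟨g, q, hq, hgx, hqP, hgq⟩ := h P hP.isPrime
  haveI := hq
  haveI := hdom (P.comap (algebraMap C B))
  have hreg : Groth.FlatDescent.Dom.FibreReg C P g := by
    intro z hz
    refine ⟨1, fun h1 => hP.ne_top ((Ideal.eq_top_iff_one _).mpr h1), ?_⟩
    rcases mul_eq_zero.mp hz with h0 | h0
    · exfalso
      let L : (P.comap (algebraMap C B)).ResidueField ⊗[C] B →ₐ[C] q.ResidueField :=
        Algebra.TensorProduct.lift
          (Ideal.ResidueField.mapₐ (P.comap (algebraMap C B)) q (Algebra.ofId C B) hqP.symm)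
          (IsScalarTower.toAlgHom C B q.ResidueField) (fun _ _ => Commute.all _ _)
      have h2 := congrArg L h0
      simp [L] at h2
      exact hgq h2
    · rw [h0, mul_zero]
  obtain ⟨t, htP, ht⟩ := Groth.FlatDescent.Dom.exists_tmul_mul_eq_zero_of_fibreReg P g hreg C ((1 : C) ⊗ₜ[C] x)
    (by rw [Algebra.TensorProduct.tmul_mul_tmul, mul_one, hgx, tmul_zero])
  refine htP (hNP ((hN t).mpr ?_))
  simpa using congrArg (Algebra.TensorProduct.lid C B) ht

end Groth.Agent.SmoothWeil
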