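import Groth.Agent.SmoothWeil.Retract
import Groth.Agent.SmoothWeil.Density
import Groth.Agent.EssFree.Alg

/-!
An element of a smooth algebra with integral fibres which vanishes on all infinitesimal neighbourhoods of a
section is zero; vanishing on all of them is a closed condition on the base.
-/

universe u

open TensorProduct

set_option linter.style.haveILetI false

noncomputable section

namespace Groth.Agent.SmoothWeil

variable {A B : Type u} [CommRing A] [CommRing B] [Algebra A B]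

/-- the section after base change -/
def eC (e : B →ₐ[A] A) (C : Type u) [CommRing C] [Algebra A C] : C ⊗[A] B →ₐ[C] C :=
  Algebra.TensorProduct.lift (AlgHom.id C C) ((Algebra.ofId A C).comp e) fun _ _ => Commute.all _ _

@[simp]
theorem eC_tmul (e : B →ₐ[A] A) {C : Type u} [CommRing C] [Algebra A C] (c : C) (b : B) :
    eC e C (c ⊗ₜ b) = c * algebraMap A C (e b) := rfl

theorem surjective_section (e : B →ₐ[A] A) : Function.Surjective e :=
  fun a => ⟨algebraMap A B a, by simp⟩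

theorem ker_eC (e : B →ₐ[A] A) (C : Type u) [CommRing C] [Algebra A C] :
    RingHom.ker (eC e C) = (RingHom.ker e).map (Algebra.TensorProduct.includeRight : B →ₐ[A] C ⊗[A] B) := by
  rw [← Algebra.TensorProduct.lTensor_ker (A := C) e (surjective_section e)]
  have h : ∀ x, eC e C x = Algebra.TensorProduct.rid A A C (Algebra.TensorProduct.map (AlgHom.id A C) e x) := by
    intro x
    induction x using TensorProduct.induction_on with
    | zero => simp
    | tmul c b => simp [Algebra.smul_def, mul_comm]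
    | add x y hx hy => simp [hx, hy]
  ext x
  rw [RingHom.mem_ker, RingHom.mem_ker, h, map_eq_zero_iff _ (Algebra.TensorProduct.rid A A C).injective]

theorem mem_pow_iff (e : B →ₐ[A] A) (m : ℕ) {C : Type u} [CommRing C] [Algebra A C] (b : B) :
    (1 : C) ⊗ₜ[A] b ∈ RingHom.ker (eC e C) ^ m ↔
      (1 : C) ⊗ₜ[A] Ideal.Quotient.mk (RingHom.ker e ^ m) b = 0 := by
  have h := Algebra.TensorProduct.lTensor_ker (A := C) (Ideal.Quotient.mkₐ A (RingHom.ker e ^ m))
    Ideal.Quotient.mk_surjective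
  rw [show RingHom.ker (Ideal.Quotient.mkₐ A (RingHom.ker e ^ m)) = RingHom.ker e ^ m from Ideal.mk_ker,
    Ideal.map_pow, ← ker_eC] at h
  rw [← h, RingHom.mem_ker, Algebra.TensorProduct.map_tmul]
  rfl

/-- a model over a Noetherian subring -/
theorem exists_stage [Algebra.Smooth A B] (e : B →ₐ[A] A) (T : Finset B) :
    ∃ (A₁ : Type u) (_ : CommRing A₁) (_ : Algebra A₁ A) (_ : IsNoetherianRing A₁) (B₁ : Type u) (_ : CommRing B₁)
      (_ : Algebra A₁ B₁) (_ : Algebra.Smooth A₁ B₁) (e₁ : B₁ →ₐ[A₁] A₁) (ψ : A ⊗[A₁] B₁ ≃ₐ[A] B),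
      Function.Injective (algebraMap A₁ A) ∧ (∀ x, e (ψ x) = eC e₁ A x) ∧ ∀ t ∈ T, ∃ b, ψ (1 ⊗ₜ b) = t := by
  classical
  obtain ⟨A₀, B₀, _, _, hA₀, hB₀, ⟨E⟩⟩ := Algebra.Smooth.exists_subalgebra_fg ℤ A B
  haveI := hB₀
  haveI : Algebra.FiniteType ℤ A₀ := (Subalgebra.fg_iff_finiteType A₀).mp hA₀
  haveI : IsNoetherianRing A₀ := Algebra.FiniteType.isNoetherianRing ℤ A₀
  let e₀ : B₀ →ₐ[A₀] A :=
    ((e.comp E.symm.toAlgHom).restrictScalars A₀).comp Algebra.TensorProduct.includeRight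
  obtain ⟨s, hs⟩ := (inferInstance : Algebra.FiniteType A₀ B₀).out
  choose S hS using fun t : B => TensorProduct.exists_finset (E t)
  let G : Finset A := s.image e₀ ∪ T.biUnion fun t => (S t).image Prod.fst
  let A₁ : Subalgebra A₀ A := Algebra.adjoin A₀ (G : Set A)
  haveI : Algebra.FiniteType A₀ A₁ := (Subalgebra.fg_iff_finiteType A₁).mp (Subalgebra.fg_adjoin_finset G)
  haveI : IsNoetherianRing A₁ := Algebra.FiniteType.isNoetherianRing A₀ A₁
  have hrange : ∀ b, e₀ b ∈ A₁ := fun b => by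
    have hb : e₀ b ∈ (Algebra.adjoin A₀ (s : Set B₀)).map e₀ := ⟨b, hs ▸ Algebra.mem_top, rfl⟩
    rw [AlgHom.map_adjoin] at hb
    refine Algebra.adjoin_mono ?_ hb
    intro a ha
    simp only [G, Finset.coe_union, Finset.coe_image]
    exact Or.inl ha
  let e₁ : A₁ ⊗[A₀] B₀ →ₐ[A₁] A₁ :=
    Algebra.TensorProduct.lift (AlgHom.id A₁ A₁) (e₀.codRestrict A₁ hrange) fun _ _ => Commute.all _ _
  let ψ : A ⊗[A₁] (A₁ ⊗[A₀] B₀) ≃ₐ[A] B := (Algebra.TensorProduct.cancelBaseChange A₀ A₁ A A B₀).trans E.symm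
  have hψ : ∀ (a : A) (r : A₁) (b : B₀), ψ (a ⊗ₜ (r ⊗ₜ b)) = E.symm ((r • a) ⊗ₜ b) := fun a r b => by simp [ψ]
  refine ⟨A₁, inferInstance, inferInstance, inferInstance, A₁ ⊗[A₀] B₀, inferInstance, inferInstance, inferInstance,
    e₁, ψ, Subtype.val_injective, fun x => ?_, fun t ht => ?_⟩
  · induction x using TensorProduct.induction_on with
    | zero => simp
    | add x y hx hy => simp [hx, hy]
    | tmul a y =>
      induction y using TensorProduct.induction_on with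
      | zero => simp
      | add x y hx hy => simp only [tmul_add, map_add, hx, hy]
      | tmul r b =>
        rw [hψ, eC_tmul, show (r • a) ⊗ₜ[A₀] b = (r • a) • ((1 : A) ⊗ₜ[A₀] b) by
          rw [TensorProduct.smul_tmul', smul_eq_mul, mul_one], map_smul, map_smul, smul_eq_mul]
        show (r • a) * e₀ b = a * ((r * e₀.codRestrict A₁ hrange b : A₁) : A)
        rw [Subalgebra.smul_def, smul_eq_mul, MulMemClass.coe_mul]
        show (r : A) * a * e₀ b = a * ((r : A) * e₀ b)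
        ring
  · have hmem : ∀ i ∈ S t, i.1 ∈ A₁ := fun i hi => Algebra.subset_adjoin (by
      simp only [G, Finset.coe_union, Finset.coe_biUnion, Finset.coe_image]
      exact Or.inr (Set.mem_biUnion ht ⟨i, hi, rfl⟩))
    refine ⟨∑ i ∈ (S t).attach, (⟨i.1.1, hmem i.1 i.2⟩ : A₁) ⊗ₜ i.1.2, E.injective ?_⟩
    rw [tmul_sum, map_sum, map_sum, hS t, ← Finset.sum_attach (S t)]
    refine Finset.sum_congr rfl fun i _ => ?_
    rw [hψ, E.apply_symm_apply, Subalgebra.smul_def, smul_eq_mul, mul_one]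

/-- the powers of the kernel of the section only depend on the model -/
theorem mem_pow_stage {A₁ B₁ : Type u} [CommRing A₁] [Algebra A₁ A] [CommRing B₁] [Algebra A₁ B₁]
    (e : B →ₐ[A] A) (e₁ : B₁ →ₐ[A₁] A₁) (ψ : A ⊗[A₁] B₁ ≃ₐ[A] B) (hψ : ∀ x, e (ψ x) = eC e₁ A x)
    {C : Type u} [CommRing C] [Algebra A C] [Algebra A₁ C] [IsScalarTower A₁ A C] (m : ℕ) (b : B₁) :
    (1 : C) ⊗ₜ[A] ψ (1 ⊗ₜ b) ∈ RingHom.ker (eC e C) ^ m ↔ (1 : C) ⊗ₜ[A₁] b ∈ RingHom.ker (eC e₁ C) ^ m := by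
  have hψ1 : ∀ b, e (ψ (1 ⊗ₜ b)) = algebraMap A₁ A (e₁ b) := fun b => by rw [hψ, eC_tmul, one_mul]
  let θ : C ⊗[A₁] B₁ →ₐ[C] C ⊗[A] B :=
    Algebra.TensorProduct.lift (Algebra.ofId C _)
      (((Algebra.TensorProduct.includeRight : B →ₐ[A] C ⊗[A] B).comp ψ.toAlgHom).restrictScalars A₁
        |>.comp Algebra.TensorProduct.includeRight) fun _ _ => Commute.all _ _
  let θ' : C ⊗[A] B →ₐ[C] C ⊗[A₁] B₁ :=
    Algebra.TensorProduct.lift (Algebra.ofId C _)
      ((Algebra.TensorProduct.map (Algebra.ofId A C) (AlgHom.id A₁ B₁)).comp ψ.symm.toAlgHom)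
      fun _ _ => Commute.all _ _
  have h1 : ∀ b, θ ((1 : C) ⊗ₜ b) = (1 : C) ⊗ₜ ψ (1 ⊗ₜ b) := fun b => by simp [θ]
  have h2 : ∀ b, θ' ((1 : C) ⊗ₜ ψ (1 ⊗ₜ b)) = (1 : C) ⊗ₜ b := fun b => by simp [θ']
  have k1 : ∀ x, eC e C (θ x) = eC e₁ C x := by
    intro x
    induction x using TensorProduct.induction_on with
    | zero => simp
    | add x y hx hy => simp [hx, hy]
    | tmul c b =>
      rw [show c ⊗ₜ[A₁] b = c • ((1 : C) ⊗ₜ[A₁] b) by rw [TensorProduct.smul_tmul', smul_eq_mul, mul_one],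
        map_smul, map_smul, map_smul, h1, eC_tmul, eC_tmul, hψ1, ← IsScalarTower.algebraMap_apply]
  have k2 : ∀ y, eC e₁ C (θ' y) = eC e C y := by
    intro y
    induction y using TensorProduct.induction_on with
    | zero => simp
    | add x y hx hy => simp [hx, hy]
    | tmul c b =>
      rw [show c ⊗ₜ[A] b = c • ((1 : C) ⊗ₜ[A] b) by rw [TensorProduct.smul_tmul', smul_eq_mul, mul_one],
        map_smul, map_smul, map_smul]
      congr 1
      obtain ⟨x, rfl⟩ := ψ.surjective b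
      rw [eC_tmul, one_mul, hψ]
      simp only [θ', Algebra.TensorProduct.lift_tmul, map_one, one_mul, AlgHom.comp_apply]
      rw [show ψ.symm.toAlgHom (ψ x) = x from ψ.symm_apply_apply x]
      clear * -
      induction x using TensorProduct.induction_on with
      | zero => simp
      | add x y hx hy => simp [hx, hy]
      | tmul a b => simp [Algebra.ofId_apply, ← IsScalarTower.algebraMap_apply]
  constructor
  · intro h
    have := Ideal.mem_map_of_mem θ'.toRingHom h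
    rw [Ideal.map_pow] at this
    have hle : (RingHom.ker (eC e C)).map θ'.toRingHom ≤ RingHom.ker (eC e₁ C) :=
      Ideal.map_le_iff_le_comap.mpr fun y (hy : eC e C y = 0) => (k2 y).trans hy
    have h3 := Ideal.pow_right_mono hle m this
    rwa [show θ'.toRingHom ((1 : C) ⊗ₜ ψ (1 ⊗ₜ b)) = (1 : C) ⊗ₜ b from h2 b] at h3
  · intro h
    have := Ideal.mem_map_of_mem θ.toRingHom h
    rw [Ideal.map_pow] at this
    have hle : (RingHom.ker (eC e₁ C)).map θ.toRingHom ≤ RingHom.ker (eC e C) :=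
      Ideal.map_le_iff_le_comap.mpr fun y (hy : eC e₁ C y = 0) => (k1 y).trans hy
    have h3 := Ideal.pow_right_mono hle m this
    rwa [show θ.toRingHom ((1 : C) ⊗ₜ b) = (1 : C) ⊗ₜ ψ (1 ⊗ₜ b) from h1 b] at h3

theorem mem_ker_iff (e : B →ₐ[A] A) (m : ℕ) (x : B) :
    x ∈ RingHom.ker e ^ m ↔ (1 : A) ⊗ₜ[A] Ideal.Quotient.mk (RingHom.ker e ^ m) x = 0 := by
  rw [← map_eq_zero_iff (Algebra.TensorProduct.lid A _) (Algebra.TensorProduct.lid A _).injective]
  simp [Ideal.Quotient.eq_zero_iff_mem]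

/-- Krull, over an arbitrary base -/
theorem exists_ann_unit [Algebra.Smooth A B] (e : B →ₐ[A] A) (x : B) (hx : ∀ m, x ∈ RingHom.ker e ^ m) :
    ∃ u, e u = 1 ∧ u * x = 0 := by
  obtain ⟨A₁, _, _, _, B₁, _, _, _, e₁, ψ, hinj, hψ, hT⟩ := exists_stage e {x}
  obtain ⟨x₁, rfl⟩ := hT x (Finset.mem_singleton_self x)
  haveI : IsNoetherianRing B₁ := Algebra.FiniteType.isNoetherianRing A₁ B₁
  have h₁ : ∀ m, x₁ ∈ RingHom.ker e₁ ^ m := by
    intro m
    have h0 := (mem_pow_stage e e₁ ψ hψ (C := A) m x₁).mp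
      ((mem_pow_iff e m (C := A) _).mpr ((mem_ker_iff e m _).mp (hx m)))
    rw [mem_pow_iff] at h0
    haveI := projective_quotient_pow e₁ m
    rw [← Ideal.Quotient.eq_zero_iff_mem]
    refine (Algebra.TensorProduct.includeRight_injective (R := A₁) (A := A)
      (B := B₁ ⧸ RingHom.ker e₁ ^ m) hinj) ?_
    rw [map_zero]
    exact h0
  obtain ⟨r, hr⟩ := ((RingHom.ker e₁).mem_iInf_smul_pow_eq_bot_iff (M := B₁) x₁).mp
    (Submodule.mem_iInf _ |>.mpr fun m => by simpa [Ideal.mul_top] using h₁ m)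
  let u : B := ψ (1 ⊗ₜ (1 - (r : B₁)))
  refine ⟨u, ?_, ?_⟩
  · show e (ψ _) = 1
    rw [hψ, eC_tmul, map_sub, map_one, show e₁ (r : B₁) = 0 from r.2]
    simp
  · rw [← map_mul, Algebra.TensorProduct.tmul_mul_tmul, one_mul, sub_mul, one_mul,
      show (r : B₁) * x₁ = x₁ from hr, sub_self, tmul_zero, map_zero]

theorem exists_ann_unit_fg [Algebra.Smooth A B] (e : B →ₐ[A] A) (I : Ideal B) (hI : I.FG)
    (hx : ∀ x ∈ I, ∀ m, x ∈ RingHom.ker e ^ m) : ∃ u, e u = 1 ∧ ∀ x ∈ I, u * x = 0 := by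
  classical
  obtain ⟨T, hT⟩ := hI
  choose u hu1 hu0 using fun x : T => exists_ann_unit e x.1 (hx x.1 (hT ▸ Ideal.subset_span x.2))
  refine ⟨∏ x, u x, by simp [hu1], fun x hxI => ?_⟩
  suffices Ideal.span (T : Set B) ≤ LinearMap.ker (LinearMap.mulLeft B (∏ x, u x)) from this (hT.ge hxI)
  refine Ideal.span_le.mpr fun t ht => ?_
  show (∏ x, u x) * t = 0
  rw [← Finset.prod_erase_mul _ u (Finset.mem_univ (⟨t, ht⟩ : T)), mul_assoc, hu0 ⟨t, ht⟩, mul_zero]

theorem eq_zero_of_forall_mem_pow [Algebra.Smooth A B] (e : B →ₐ[A] A) (hdom : DomFibres A B) (x : B)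
    (hx : ∀ m, x ∈ RingHom.ker e ^ m) : x = 0 := by
  obtain ⟨u, h2, h0⟩ := exists_ann_unit e x hx
  refine eq_zero_of_fibrewise hdom _ fun P hP => ?_
  haveI := hP
  refine ⟨u, (P.comap (algebraMap A B)).comap e, inferInstance, h0, ?_, fun hu => ?_⟩
  · ext a
    simp
  · have h3 : algebraMap A B (e u) ∈ P := hu
    rw [h2, map_one] at h3
    exact hP.ne_top ((Ideal.eq_top_iff_one _).mpr h3)

/-- vanishing on the `m`-th neighbourhood, as an ideal of the base -/
theorem exists_level_ideal [Algebra.Smooth A B] (e : B →ₐ[A] A) (I : Ideal B) (m : ℕ) :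
    ∃ J : Ideal A, (I.FG → J.FG) ∧ ∀ (C : Type u) [CommRing C] [Algebra A C],
      (∀ b ∈ I, (1 : C) ⊗ₜ[A] b ∈ RingHom.ker (eC e C) ^ m) ↔ J ≤ RingHom.ker (algebraMap A C) := by
  haveI := projective_quotient_pow e m
  obtain ⟨J, hfg, hJ⟩ := EssFree.exists_coord_ideal (A := A) (I.map (Ideal.Quotient.mk (RingHom.ker e ^ m)))
  refine ⟨J, fun h => hfg (h.map _), fun C _ _ => ?_⟩
  rw [← hJ, Ideal.map_le_iff_le_comap]
  refine forall₂_congr fun b _ => ?_
  rw [mem_pow_iff, ← map_eq_zero_iff (TensorProduct.comm A C _) (TensorProduct.comm A C _).injective]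
  rfl

/-- vanishing on every neighbourhood, as an ideal of the base; finitely many suffice for a finitely generated ideal -/
theorem exists_inf_ideal [Algebra.Smooth A B] (e : B →ₐ[A] A) (I : Ideal B) :
    ∃ J : Ideal A, (∀ (C : Type u) [CommRing C] [Algebra A C],
      (∀ b ∈ I, ∀ m, (1 : C) ⊗ₜ[A] b ∈ RingHom.ker (eC e C) ^ m) ↔ J ≤ RingHom.ker (algebraMap A C)) ∧
      (I.FG → J.FG ∧ ∃ n, ∀ (C : Type u) [CommRing C] [Algebra A C],
        (∀ b ∈ I, (1 : C) ⊗ₜ[A] b ∈ RingHom.ker (eC e C) ^ (n + 1)) → J ≤ RingHom.ker (algebraMap A C)) := by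
  classical
  choose J hJfg hJ using exists_level_ideal e I
  have key : ∀ (C : Type u) [CommRing C] [Algebra A C],
      (∀ b ∈ I, ∀ m, (1 : C) ⊗ₜ[A] b ∈ RingHom.ker (eC e C) ^ m) ↔ ⨆ m, J m ≤ RingHom.ker (algebraMap A C) := by
    intro C _ _
    rw [iSup_le_iff]
    simp_rw [← hJ]
    exact ⟨fun h m b hb => h b hb m, fun h b hb m => h m b hb⟩
  refine ⟨⨆ m, J m, key, fun hfg => ?_⟩
  obtain ⟨T, hT⟩ := hfg
  obtain ⟨A₁, _, _, _, B₁, _, _, _, e₁, ψ, -, hψ, hlift⟩ := exists_stage e T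
  choose b₁ hb₁ using hlift
  let I₁ : Ideal B₁ := Ideal.span (Set.range fun t : T => b₁ t.1 t.2)
  choose J₁ _ hJ₁ using exists_level_ideal e₁ I₁
  have hmap : ∀ m, J m = (J₁ m).map (algebraMap A₁ A) := by
    intro m
    have hiff : ∀ (C : Type u) [CommRing C] [Algebra A C], J m ≤ RingHom.ker (algebraMap A C) ↔
        (J₁ m).map (algebraMap A₁ A) ≤ RingHom.ker (algebraMap A C) := by
      intro C _ _
      letI : Algebra A₁ C := ((algebraMap A C).comp (algebraMap A₁ A)).toAlgebra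
      haveI : IsScalarTower A₁ A C := IsScalarTower.of_algebraMap_eq fun _ => rfl
      rw [Ideal.map_le_iff_le_comap, RingHom.comap_ker, ← hJ m C]
      show _ ↔ J₁ m ≤ RingHom.ker (algebraMap A₁ C)
      rw [← hJ₁ m C]
      let R₁ : B₁ →+* C ⊗[A₁] B₁ := Algebra.TensorProduct.includeRight.toRingHom
      let R₀ : B →+* C ⊗[A] B := Algebra.TensorProduct.includeRight.toRingHom
      show I ≤ Ideal.comap R₀ _ ↔ I₁ ≤ Ideal.comap R₁ _
      rw [← hT, Ideal.span_le, Ideal.span_le, Set.range_subset_iff]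
      constructor
      · intro h t
        refine (mem_pow_stage e e₁ ψ hψ m _).mp ?_
        rw [hb₁]
        exact h t.2
      · intro h b hb
        have := (mem_pow_stage e e₁ ψ hψ m _).mpr (h ⟨b, hb⟩)
        rw [hb₁] at this
        exact this
    refine le_antisymm ?_ ?_
    · have := (hiff (A ⧸ (J₁ m).map (algebraMap A₁ A))).mpr Ideal.mk_ker.ge
      exact this.trans Ideal.mk_ker.le
    · have := (hiff (A ⧸ J m)).mp Ideal.mk_ker.ge
      exact this.trans Ideal.mk_ker.le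
  have hfg' : (⨆ m, J m).FG := by
    simp_rw [hmap, ← Ideal.map_iSup]
    have h : (⨆ m, J₁ m).FG := (isNoetherianRing_iff_ideal_fg A₁).mp inferInstance _
    exact h.map _
  refine ⟨hfg', ?_⟩
  have hmono : Monotone fun m => J m := by
    intro m m' h
    have h1 : ∀ b ∈ I, (1 : A ⧸ J m') ⊗ₜ[A] b ∈ RingHom.ker (eC e (A ⧸ J m')) ^ m' := (hJ m' _).mpr Ideal.mk_ker.ge
    exact ((hJ m _).mp fun b hb => Ideal.pow_le_pow_right h (h1 b hb)).trans Ideal.mk_ker.le
  obtain ⟨n, hn⟩ : ∃ n, ⨆ m, J m ≤ J n := by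
    obtain ⟨F, hF⟩ := hfg'
    have : ∀ a ∈ F, ∃ m, a ∈ J m := fun a ha =>
      (Submodule.mem_iSup_of_directed _ hmono.directed_le).mp (hF ▸ Submodule.subset_span ha)
    choose g hg using this
    refine ⟨F.attach.sup fun a => g a.1 a.2, ?_⟩
    rw [← hF, Submodule.span_le]
    exact fun a ha => hmono (Finset.le_sup (f := fun a : F => g a.1 a.2) (Finset.mem_attach F ⟨a, ha⟩)) (hg a ha)
  exact ⟨n, fun C _ _ h => (hn.trans (hmono (Nat.le_succ n))).trans ((hJ (n + 1) C).mp h)⟩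

end Groth.Agent.SmoothWeil
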