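import Groth.Agent.SmoothWeil.Inf
import Groth.Agent.SmoothWeil.Geom
import Groth.Agent.EssFree.Main
import Groth.Agent.FlatDescent.Dom.Chart

/-!
The Weil restriction of a closed immersion along a smooth morphism with connected geometric fibres is a closed
subscheme.
-/

universe u

open CategoryTheory Limits AlgebraicGeometry TensorProduct
open Groth.Agent.EssFree

set_option backward.isDefEq.respectTransparency false
set_option linter.style.haveILetI false

noncomputable section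

namespace Groth.Agent.SmoothWeil

variable {S Z Y : Scheme.{u}} {f : Z ⟶ S} {j : Y ⟶ Z}

/-- a point of an affine open of `Z ×_S Spec C` over a given prime of `C` lifts to the fibre -/
theorem exists_fibre_point {C : Type u} [CommRing C] (v : Spec (CommRingCat.of C) ⟶ S) (p : PrimeSpectrum C)
    (z : ↥(pullback f v)) (hz : pullback.snd f v z = p) :
    ∃ q : ↥(pullback f (Spec.map (CommRingCat.ofHom (algebraMap C p.asIdeal.ResidueField)) ≫ v)),
      pullback.map _ _ _ _ (𝟙 Z) (Spec.map (CommRingCat.ofHom (algebraMap C p.asIdeal.ResidueField))) (𝟙 S)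
        (by simp) (by simp) q = z := by
  let k := Spec.map (CommRingCat.ofHom (algebraMap C p.asIdeal.ResidueField))
  let m : pullback f (k ≫ v) ⟶ pullback f v := pullback.map _ _ _ _ (𝟙 _) k (𝟙 _) (by simp) (by simp)
  have hm : IsPullback (pullback.snd f (k ≫ v)) m k (pullback.snd f v) := by
    refine (IsPullback.of_right ?_ (by simp [m]) (IsPullback.of_hasPullback f v)).flip
    simpa [m] using IsPullback.of_hasPullback f (k ≫ v)
  obtain ⟨t, ht⟩ : pullback.snd f v z ∈ Set.range k := by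
    rw [hz]
    exact (PrimeSpectrum.residueField_comap p).ge rfl
  obtain ⟨q, -, hq⟩ := Scheme.exists_preimage_of_isPullback hm t z ht
  exact ⟨q, hq⟩

/-- `Y` contains all of `Z ×_S Spec C` if it contains an open piece meeting every fibre -/
theorem full_of_dense [IsClosedImmersion j] [Smooth f] [GeometricallyConnected f] {C W : Type u} [CommRing C] [CommRing W]
    (v : Spec (CommRingCat.of C) ⟶ S) (ρ : Spec (CommRingCat.of W) ⟶ pullback f v) [IsOpenImmersion ρ]
    (hmeet : ∀ p : PrimeSpectrum C, ∃ y, pullback.snd f v (ρ y) = p)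
    (hW : ∃ l, l ≫ j = ρ ≫ pullback.fst f v) : Full f j v := by
  refine exists_lift_of_cover _ (pullback f v).affineCover fun i => ?_
  let B := (pullback f v).affineOpenCover.X i
  let ρ₂ : Spec (CommRingCat.of B) ⟶ pullback f v := (pullback f v).affineCover.f i
  haveI : IsOpenImmersion ρ₂ := (pullback f v).affineCover.map_prop i
  show ∃ ψ, ψ ≫ j = ρ₂ ≫ pullback.fst f v
  let φ : CommRingCat.of C ⟶ CommRingCat.of B := Spec.preimage (ρ₂ ≫ pullback.snd f v)
  letI := φ.hom.toAlgebra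
  have hρ₂ : ρ₂ ≫ pullback.snd f v = Spec.map (CommRingCat.ofHom (algebraMap C B)) := (Spec.map_preimage _).symm
  haveI : Algebra.Smooth C B := by
    have : Smooth (Spec.map φ) := by rw [Spec.map_preimage]; infer_instance
    exact (HasRingHomProperty.Spec_iff (P := @Smooth)).mp this
  obtain ⟨I, -, hI⟩ := FactLocus.exists_ker_criterion (pullback.snd j (ρ₂ ≫ pullback.fst f v))
  suffices h : I ≤ RingHom.ker (RingHom.id B) by
    obtain ⟨ψ, hψ⟩ := (hI B (RingHom.id B)).mpr h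
    refine ⟨ψ ≫ pullback.fst _ _, ?_⟩
    rw [Category.assoc, pullback.condition, reassoc_of% hψ]
    simp
  intro b hb
  refine eq_zero_of_fibrewise (domFibres_of_openImmersion v ρ₂ hρ₂) b fun P hP => ?_
  haveI := hP
  let p : PrimeSpectrum C := ⟨P.comap (algebraMap C B), inferInstance⟩
  have hP' : pullback.snd f v (ρ₂ ⟨P, hP⟩) = p := by
    rw [← Scheme.Hom.comp_apply, hρ₂]; rfl
  obtain ⟨y, hy⟩ := hmeet p
  obtain ⟨a, ha⟩ := exists_fibre_point v p _ hP'
  obtain ⟨c, hc⟩ := exists_fibre_point v p _ hy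
  let k := Spec.map (CommRingCat.ofHom (algebraMap C p.asIdeal.ResidueField))
  let m : pullback f (k ≫ v) ⟶ pullback f v := pullback.map _ _ _ _ (𝟙 _) k (𝟙 _) (by simp) (by simp)
  haveI := irreducibleSpace_fibre (f := f) (k ≫ v)
  obtain ⟨z, hz₂, hz₁⟩ := nonempty_preirreducible_inter (m ⁻¹ᵁ ρ₂.opensRange).isOpen (m ⁻¹ᵁ ρ.opensRange).isOpen
    ⟨a, ⟨_, ha.symm⟩⟩ ⟨c, ⟨_, hc.symm⟩⟩
  obtain ⟨q, hq⟩ := hz₂
  have hqp : pullback.snd f v (m z) = p := by
    rw [← Scheme.Hom.comp_apply, show m ≫ pullback.snd f v = pullback.snd f (k ≫ v) ≫ k by simp [m],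
      Scheme.Hom.comp_apply]
    refine (PrimeSpectrum.residueField_comap p).le ⟨_, rfl⟩
  have hqO : q ∈ ρ₂ ⁻¹ᵁ ρ.opensRange := by
    show ρ₂ q ∈ ρ.opensRange
    rw [hq]
    exact hz₁
  obtain ⟨_, ⟨g, rfl⟩, hgq, hgO⟩ := PrimeSpectrum.isTopologicalBasis_basic_opens.exists_subset_of_mem_open
    hqO (ρ₂ ⁻¹ᵁ ρ.opensRange).isOpen
  let loc : Spec (CommRingCat.of (Localization.Away g)) ⟶ Spec (CommRingCat.of B) :=
    Spec.map (CommRingCat.ofHom (algebraMap B (Localization.Away g)))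
  let t : Spec (CommRingCat.of (Localization.Away g)) ⟶ Spec (CommRingCat.of W) :=
    IsOpenImmersion.lift ρ (loc ≫ ρ₂) (by
      rintro _ ⟨w, rfl⟩
      rw [Scheme.Hom.comp_apply]
      exact hgO ((PrimeSpectrum.localization_away_comap_range (Localization.Away g) g).le ⟨w, rfl⟩))
  obtain ⟨l, hl⟩ := hW
  have hker : I ≤ RingHom.ker (algebraMap B (Localization.Away g)) := (hI _ _).mp
    ⟨pullback.lift (t ≫ l) loc (by rw [Category.assoc, hl, IsOpenImmersion.lift_fac_assoc, Category.assoc]),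
      pullback.lift_snd _ _ _⟩
  obtain ⟨⟨_, n, rfl⟩, hn⟩ := (IsLocalization.map_eq_zero_iff (Submonoid.powers g) (Localization.Away g) b).mp (hker hb)
  refine ⟨g ^ n, (q : PrimeSpectrum B).asIdeal, (q : PrimeSpectrum B).isPrime, hn, ?_, fun h => hgq
    ((q : PrimeSpectrum B).isPrime.mem_of_pow_mem n h)⟩
  have h1 : pullback.snd f v (ρ₂ q) = p := by rw [hq]; exact hqp
  rw [← Scheme.Hom.comp_apply, hρ₂] at h1
  exact congrArg PrimeSpectrum.asIdeal h1

/-- on a chart with a section the condition is given by an ideal -/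
theorem exists_chart_ideal_section [IsClosedImmersion j] [Smooth f] [GeometricallyConnected f] {A B : Type u}
    [CommRing A] [CommRing B] [Algebra A B] [Algebra.Smooth A B] (e : B →ₐ[A] A)
    (v : Spec (CommRingCat.of A) ⟶ S) (ρ : Spec (CommRingCat.of B) ⟶ pullback f v) [IsOpenImmersion ρ]
    (hρ : ρ ≫ pullback.snd f v = Spec.map (CommRingCat.ofHom (algebraMap A B))) :
    ∃ J : Ideal A, (LocallyOfFinitePresentation j → J.FG) ∧
      ∀ (C : Type u) [CommRing C] (k : A →+* C),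
        Full f j (Spec.map (CommRingCat.ofHom k) ≫ v) ↔ J ≤ RingHom.ker k := by
  obtain ⟨I, hIfg, hI⟩ := FactLocus.exists_ker_criterion (pullback.snd j (ρ ≫ pullback.fst f v))
  obtain ⟨J, hJ, hJfg⟩ := exists_inf_ideal e I
  refine ⟨J, fun h => (hJfg (hIfg inferInstance)).1, fun C _ k => ?_⟩
  letI := k.toAlgebra
  obtain ⟨ρ', _, hs, hf'⟩ := exists_bcChart (K := C) v ρ hρ
  show Full f j (Spec.map (CommRingCat.ofHom (algebraMap A C)) ≫ v) ↔ J ≤ RingHom.ker (algebraMap A C)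
  rw [← hJ C]
  let R₀ : B →+* C ⊗[A] B := Algebra.TensorProduct.includeRight.toRingHom
  constructor
  · rintro ⟨l, hl⟩ b hb m
    have h0 : I ≤ RingHom.ker R₀ := (hI _ _).mp
      ⟨pullback.lift (ρ' ≫ l) (Spec.map (CommRingCat.ofHom R₀)) (by rw [Category.assoc, hl]; exact hf'),
        pullback.lift_snd _ _ _⟩
    rw [show (1 : C) ⊗ₜ[A] b = 0 from h0 hb]
    exact zero_mem _
  · intro h
    have hdom : DomFibres C (C ⊗[A] B) := domFibres_of_openImmersion _ ρ' hs
    have h0 : I ≤ RingHom.ker R₀ := fun b hb => eq_zero_of_forall_mem_pow (eC e C) hdom _ (h b hb)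
    obtain ⟨z, hz⟩ := (hI _ R₀).mpr h0
    refine full_of_dense _ ρ' (fun p => ?_) ⟨z ≫ pullback.fst _ _, ?_⟩
    · refine ⟨PrimeSpectrum.comap (eC e C).toRingHom p, ?_⟩
      rw [← Scheme.Hom.comp_apply, hs]
      refine PrimeSpectrum.ext (Ideal.ext fun c => ?_)
      show eC e C (c ⊗ₜ 1) ∈ p.asIdeal ↔ _
      simp
    · rw [Category.assoc, pullback.condition, reassoc_of% hz]
      exact hf'.symm

/-- the points over which `Z` lies in `Y` form a closed subscheme -/
theorem exists_closed_full_smooth [IsClosedImmersion j] [Smooth f] [GeometricallyConnected f] :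
    ∃ (T : Scheme.{u}) (t : T ⟶ S), IsClosedImmersion t ∧
      (LocallyOfFinitePresentation j → LocallyOfFinitePresentation t) ∧
      ∀ {S' : Scheme.{u}} (g : S' ⟶ S), (∃ z : S' ⟶ T, z ≫ t = g) ↔ Full f j g := by
  refine exists_closed_full_of_charts (LocallyOfFinitePresentation j) fun U x hx => ?_
  obtain ⟨z, rfl⟩ := f.surjective x
  obtain ⟨_, ⟨V, hV, rfl⟩, hzV, hVU⟩ := Z.isBasis_affineOpens.exists_subset_of_mem_open
    (show z ∈ f ⁻¹ᵁ U.1 from hx) (f ⁻¹ᵁ U.1).isOpen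
  replace hV : IsAffineOpen V := hV
  let φ : Γ(S, U) ⟶ Γ(Z, V) := f.appLE U.1 V hVU
  letI := φ.hom.toAlgebra
  haveI : Algebra.Smooth Γ(S, U) Γ(Z, V) := f.smooth_appLE U.2 hV hVU
  have hk : hV.fromSpec ≫ f = Spec.map (CommRingCat.ofHom (algebraMap Γ(S, U) Γ(Z, V))) ≫ U.2.fromSpec :=
    (IsAffineOpen.SpecMap_appLE_fromSpec f U.2 hV hVU).symm
  have ha : 𝟙 (Spec (CommRingCat.of Γ(Z, V))) ≫ (Spec.map φ ≫ U.2.fromSpec) =
      Spec.map (CommRingCat.ofHom (algebraMap Γ(S, U) Γ(Z, V))) ≫ U.2.fromSpec := Category.id_comp _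
  let ρ := Groth.FlatDescent.Dom.baseChart U.2.fromSpec (q := f) hk (g := Spec.map φ ≫ U.2.fromSpec) ha
  haveI : IsOpenImmersion ρ := Groth.FlatDescent.Dom.isOpenImmersion_baseChart ..
  let e : Γ(Z, V) ⊗[Γ(S, U)] Γ(Z, V) →ₐ[Γ(Z, V)] Γ(Z, V) :=
    Algebra.TensorProduct.lift (AlgHom.id _ _) (AlgHom.id _ _) fun _ _ => Commute.all _ _
  have hρ : ρ ≫ pullback.snd f (Spec.map φ ≫ U.2.fromSpec) =
      Spec.map (CommRingCat.ofHom (algebraMap Γ(Z, V) (Γ(Z, V) ⊗[Γ(S, U)] Γ(Z, V)))) := by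
    refine (Groth.FlatDescent.Dom.baseChart_snd _ _ _).trans ?_
    rw [Category.comp_id]
    rfl
  obtain ⟨J, hJfg, hJ⟩ := exists_chart_ideal_section (j := j) e _ ρ hρ
  refine ⟨Γ(Z, V), φ, f.flat_appLE U.2 hV hVU, ⟨⟨f '' (V : Set Z), f.isOpenMap _ V.isOpen⟩, ⟨z, hzV, rfl⟩, ?_⟩,
    J, hJfg, hJ⟩
  rintro _ ⟨y, hy, rfl⟩
  obtain ⟨w, hw⟩ := hV.range_fromSpec.ge hy
  exact ⟨w, by rw [IsAffineOpen.SpecMap_appLE_fromSpec f U.2 hV hVU, Scheme.Hom.comp_apply, hw]⟩

end Groth.Agent.SmoothWeil
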