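import Mathlib

/-!
The infinitesimal neighbourhoods of a section of a smooth algebra are finite projective.
-/

universe u

open TensorProduct MvPolynomial

set_option linter.style.haveILetI false

noncomputable section

namespace Groth.Agent.SmoothWeil

theorem projective_quotient_idealOfVars (A : Type u) [CommRing A] (r m : ℕ) :
    Module.Projective A (MvPolynomial (Fin r) A ⧸ idealOfVars (Fin r) A ^ m) := by
  classical
  let tr : MvPolynomial (Fin r) A →ₗ[A] MvPolynomial (Fin r) A :=
    (basisMonomials (Fin r) A).constr A fun d => if d.degree < m then monomial d 1 else 0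
  have hcoeff : ∀ (p : MvPolynomial (Fin r) A) (d : Fin r →₀ ℕ),
      coeff d (tr p) = if d.degree < m then coeff d p else 0 := by
    intro p d
    induction p using MvPolynomial.induction_on' with
    | monomial d' a =>
      have h : monomial d' a = a • (basisMonomials (Fin r) A) d' := by
        rw [coe_basisMonomials, smul_monomial, smul_eq_mul, mul_one]
      rw [h, map_smul, Module.Basis.constr_basis, coe_basisMonomials]
      by_cases hd : d' = d
      · subst hd; split_ifs <;> simp
      · split_ifs <;> simp [coeff_monomial, hd]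
    | add p q hp hq =>
      rw [map_add, coeff_add, coeff_add, hp, hq]
      split_ifs <;> simp
  have hker : (idealOfVars (Fin r) A ^ m).restrictScalars A ≤ LinearMap.ker tr := by
    intro p hp
    ext d
    rw [hcoeff, coeff_zero]
    split_ifs with h
    · exact (mem_pow_idealOfVars_iff' m p).mp hp d h
    · rfl
  let σ : (MvPolynomial (Fin r) A ⧸ idealOfVars (Fin r) A ^ m) →ₗ[A] MvPolynomial (Fin r) A :=
    (Submodule.liftQ _ tr hker).comp (Submodule.Quotient.restrictScalarsEquiv A _).symm.toLinearMap
  refine Module.Projective.of_split σ (Ideal.Quotient.mkₐ A (idealOfVars (Fin r) A ^ m)).toLinearMap ?_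
  refine LinearMap.ext fun x => ?_
  obtain ⟨p, rfl⟩ := Ideal.Quotient.mk_surjective x
  show Ideal.Quotient.mk _ (tr p) = Ideal.Quotient.mk _ p
  rw [Ideal.Quotient.eq, mem_pow_idealOfVars_iff']
  intro d hd
  rw [coeff_sub, hcoeff, if_pos hd, sub_self]

variable {A B : Type u} [CommRing A] [CommRing B] [Algebra A B]

theorem projective_quotient_pow [Algebra.Smooth A B] (e : B →ₐ[A] A) (m : ℕ) :
    Module.Projective A (B ⧸ RingHom.ker e ^ m) := by
  classical
  obtain ⟨s, hs⟩ := (inferInstance : Algebra.FiniteType A B).out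
  let r := Fintype.card s
  let gen : Fin r → B := fun i => ((Fintype.equivFin s).symm i).1
  let g : Fin r → B := fun i => gen i - algebraMap A B (e (gen i))
  let Φ : MvPolynomial (Fin r) A →ₐ[A] B ⧸ RingHom.ker e ^ m :=
    (Ideal.Quotient.mkₐ A _).comp (aeval g)
  have hg : ∀ i, g i ∈ RingHom.ker e := fun i => by simp [g, RingHom.mem_ker]
  have hΦker : idealOfVars (Fin r) A ^ m ≤ RingHom.ker Φ := by
    intro p hp
    show Ideal.Quotient.mk _ (aeval g p) = 0
    rw [Ideal.Quotient.eq_zero_iff_mem]
    refine Ideal.pow_right_mono ?_ m (show aeval g p ∈ (idealOfVars (Fin r) A).map (aeval g).toRingHom ^ m by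
      rw [← Ideal.map_pow]; exact Ideal.mem_map_of_mem _ hp)
    rw [idealOfVars, Ideal.map_span, Ideal.span_le]
    rintro _ ⟨_, ⟨i, rfl⟩, rfl⟩
    simpa using hg i
  let φ : (MvPolynomial (Fin r) A ⧸ idealOfVars (Fin r) A ^ m) →ₐ[A] B ⧸ RingHom.ker e ^ m :=
    Ideal.Quotient.liftₐ _ Φ hΦker
  have hφ : Function.Surjective φ := by
    have htop : (aeval g : MvPolynomial (Fin r) A →ₐ[A] B).range = ⊤ := by
      rw [← top_le_iff, ← hs, Algebra.adjoin_le_iff]
      intro b hb
      refine ⟨X (Fintype.equivFin s ⟨b, hb⟩) + C (e b), ?_⟩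
      simp [g, gen]
    intro x
    obtain ⟨b, rfl⟩ := Ideal.Quotient.mk_surjective x
    obtain ⟨p, rfl⟩ := (htop ▸ Algebra.mem_top : b ∈ (aeval g : MvPolynomial (Fin r) A →ₐ[A] B).range)
    exact ⟨Ideal.Quotient.mk _ p, rfl⟩
  have hnil : IsNilpotent (RingHom.ker φ.toRingHom) := by
    refine ⟨m, le_bot_iff.mp ((Ideal.pow_right_mono (J := (idealOfVars (Fin r) A).map
      (Ideal.Quotient.mk (idealOfVars (Fin r) A ^ m))) ?_ m).trans ?_)⟩
    · intro x hx
      obtain ⟨p, rfl⟩ := Ideal.Quotient.mk_surjective x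
      by_cases hm : m = 0
      · subst hm
        rw [show Ideal.Quotient.mk (idealOfVars (Fin r) A ^ 0) p = 0 from
          Ideal.Quotient.eq_zero_iff_mem.mpr (by simp)]
        exact zero_mem _
      refine Ideal.mem_map_of_mem _ ?_
      have h1 : aeval g p ∈ RingHom.ker e ^ m := Ideal.Quotient.eq_zero_iff_mem.mp hx
      have h2 : e (aeval g p) = 0 := Ideal.pow_le_self hm h1
      rw [comp_aeval_apply, show (fun i => e (g i)) = fun _ => 0 from funext fun i => hg i, aeval_zero'] at h2
      have := (mem_pow_idealOfVars_iff' 1 p).mpr fun d hd => by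
        rw [show d = 0 from Finsupp.degree_eq_zero_iff d |>.mp (by omega), ← constantCoeff_eq]
        simpa using h2
      rwa [pow_one] at this
    · rw [← Ideal.map_pow]
      exact Ideal.map_quotient_self _ |>.le
  let ψ : B →ₐ[A] MvPolynomial (Fin r) A ⧸ idealOfVars (Fin r) A ^ m :=
    Algebra.FormallySmooth.liftOfSurjective (Ideal.Quotient.mkₐ A _) φ hφ hnil
  have hψ : ∀ b, φ (ψ b) = Ideal.Quotient.mk _ b := fun b =>
    Algebra.FormallySmooth.liftOfSurjective_apply (Ideal.Quotient.mkₐ A _) φ hφ hnil b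
  haveI := projective_quotient_idealOfVars A r m
  by_cases hm : m = 0
  · subst hm
    haveI : Subsingleton (B ⧸ RingHom.ker e ^ 0) := Ideal.Quotient.subsingleton_iff.mpr (by simp)
    infer_instance
  have hψI : RingHom.ker e ^ m ≤ RingHom.ker ψ := by
    intro b hb
    let T := (idealOfVars (Fin r) A).map (Ideal.Quotient.mk (idealOfVars (Fin r) A ^ m))
    have h0 : T ^ m = ⊥ := by rw [← Ideal.map_pow, Ideal.map_quotient_self]
    have h1 : (RingHom.ker e).map ψ.toRingHom ≤ T := by
      rw [Ideal.map_le_iff_le_comap]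
      intro b hb
      obtain ⟨p, hp⟩ := Ideal.Quotient.mk_surjective (ψ b)
      show ψ b ∈ T
      rw [← hp]
      refine Ideal.mem_map_of_mem _ ?_
      have h3 : Ideal.Quotient.mk (RingHom.ker e ^ m) (aeval g p) = Ideal.Quotient.mk _ b := by
        rw [← hψ b, ← hp]; rfl
      have h4 : aeval g p - b ∈ RingHom.ker e := Ideal.pow_le_self hm (Ideal.Quotient.eq.mp h3)
      rw [RingHom.mem_ker, map_sub, show e b = 0 from hb, sub_zero, comp_aeval_apply,
        show (fun i => e (g i)) = fun _ => 0 from funext fun i => hg i, aeval_zero'] at h4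
      have := (mem_pow_idealOfVars_iff' 1 p).mpr fun d hd => by
        rw [show d = 0 from Finsupp.degree_eq_zero_iff d |>.mp (by omega), ← constantCoeff_eq]
        simpa using h4
      rwa [pow_one] at this
    have h5 : ψ b ∈ T ^ m := Ideal.pow_right_mono h1 m (by rw [← Ideal.map_pow]; exact Ideal.mem_map_of_mem _ hb)
    rw [h0] at h5
    exact h5
  refine Module.Projective.of_split (Ideal.Quotient.liftₐ _ ψ hψI).toLinearMap φ.toLinearMap ?_
  refine LinearMap.ext fun x => ?_
  obtain ⟨b, rfl⟩ := Ideal.Quotient.mk_surjective x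
  exact hψ b

end Groth.Agent.SmoothWeil
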